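import Mathlib
import Cfsg.Agent.ClassicalGeometry.AutPSL.Main
import Cfsg.Agent.H943.SL2Rel

/-!
# Groups with a normal subgroup `PSL₂(81)` (helper434)

`G` a group, `φ : SL₂(F) →* G` with kernel the centre, `card F = 81`, `C_G(φ.range) = 1`, `H` normalising `φ.range`:
`H / S` is abelian of exponent dividing 4, `C_H(φ (h λ))` is cyclic of order dividing 80.
-/

set_option autoImplicit false
set_option linter.unusedSectionVars false

namespace Cfsg.Agent.H434.E8L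

open Matrix
open Cfsg.Agent.ClassicalGeometry.AutPSL.Auto Cfsg.Agent.ClassicalGeometry.AutPSL.Main
open Cfsg.Agent.ClassicalGeometry.AutPSL.Root
open Cfsg.Agent.H943.SL2Rel (h u w)

section Field

variable {F : Type*} [Field F] [Fintype F]

theorem charP_three (hcard : Fintype.card F = 81) : CharP F 3 := by
  obtain ⟨⟨m, hm⟩, hp', hc⟩ := FiniteField.card F (ringChar F)
  rw [hcard] at hc
  have h1 : ringChar F ∣ 3 ^ 4 := by
    rw [show (3 : ℕ) ^ 4 = 81 by norm_num, hc]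
    exact dvd_pow_self _ (by simpa using hm.ne')
  have h2 := (Nat.prime_dvd_prime_iff_eq hp' Nat.prime_three).1 (hp'.dvd_of_dvd_pow h1)
  exact h2 ▸ ringChar.charP F

/-- the automorphisms of the field of order 81 -/
theorem aut_pow (hcard : Fintype.card F = 81) (σ : F ≃+* F) : ∃ i < 4, ∀ x, σ x = x ^ 3 ^ i := by
  have := charP_three hcard
  have h3 : Fact (Nat.Prime 3) := ⟨Nat.prime_three⟩
  let _ : Algebra (ZMod 3) F := ZMod.algebra F 3
  let σ' : F →ₐ[ZMod 3] F :=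
    { (σ : F →+* F) with
      commutes' := fun a => RingHom.congr_fun
        (Subsingleton.elim ((σ : F →+* F).comp (algebraMap (ZMod 3) F)) (algebraMap (ZMod 3) F)) a }
  obtain ⟨n, hn⟩ := (FiniteField.bijective_frobeniusAlgHom_pow (ZMod 3) F).2 σ'
  have hr : Module.finrank (ZMod 3) F = 4 := by
    have h1 : Fintype.card F = 3 ^ Module.finrank (ZMod 3) F := by
      rw [Module.card_eq_pow_finrank (K := ZMod 3) (V := F), ZMod.card]
    rw [hcard] at h1
    have h2 : 3 ^ Module.finrank (ZMod 3) F = 3 ^ 4 := by rw [← h1]; norm_num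
    exact Nat.pow_right_injective (by norm_num : 2 ≤ 3) h2
  refine ⟨n.1, by rw [← hr]; exact n.2, fun x => ?_⟩
  have h1 : ∀ (k : ℕ) (x : F), (FiniteField.frobeniusAlgHom (ZMod 3) F ^ k) x = x ^ 3 ^ k := by
    intro k
    induction k with
    | zero => intro x; simp
    | succ k ih =>
      intro x
      rw [pow_succ, AlgHom.mul_apply, ih, FiniteField.coe_frobeniusAlgHom, ZMod.card, ← pow_mul, ← pow_succ']
  have h2 : σ' x = x ^ 3 ^ n.1 := by rw [← hn]; exact h1 n.1 x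
  exact h2

theorem aut_comm (hcard : Fintype.card F = 81) (σ τ : F ≃+* F) : σ * τ = τ * σ := by
  obtain ⟨i, -, hi⟩ := aut_pow hcard σ
  obtain ⟨j, -, hj⟩ := aut_pow hcard τ
  apply RingEquiv.ext
  intro x
  show σ (τ x) = τ (σ x)
  rw [hi, hj, hi, hj, ← pow_mul, ← pow_mul, mul_comm]

theorem aut_four (hcard : Fintype.card F = 81) (σ : F ≃+* F) : σ ^ 4 = 1 := by
  obtain ⟨i, hi4, hi⟩ := aut_pow hcard σ
  apply RingEquiv.ext
  intro x
  have h81 : ∀ x : F, x ^ 81 = x := fun x => by rw [← hcard]; exact FiniteField.pow_card x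
  have h1 : (σ ^ 4) x = (((x ^ 3 ^ i) ^ 3 ^ i) ^ 3 ^ i) ^ 3 ^ i := by
    show σ (σ (σ (σ x))) = _
    rw [hi, hi, hi, hi]
  rw [h1, ← pow_mul, ← pow_mul, ← pow_mul]
  show _ = x
  interval_cases i
  · simp
  · exact h81 x
  · calc x ^ (3 ^ 2 * 3 ^ 2 * 3 ^ 2 * 3 ^ 2) = (x ^ 81) ^ 81 := by rw [← pow_mul]; norm_num
      _ = x := by rw [h81, h81]
  · calc x ^ (3 ^ 3 * 3 ^ 3 * 3 ^ 3 * 3 ^ 3) = ((x ^ 81) ^ 81) ^ 81 := by rw [← pow_mul, ← pow_mul]; norm_num
      _ = x := by rw [h81, h81, h81]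

/-- `d σ(d)` is a square -/
theorem sq_mul (hcard : Fintype.card F = 81) (σ : F ≃+* F) (d : F) : ∃ s, d * σ d = s ^ 2 := by
  obtain ⟨i, -, hi⟩ := aut_pow hcard σ
  have h1 : Odd (3 ^ i) := Odd.pow (by decide)
  obtain ⟨k, hk⟩ := h1
  refine ⟨d ^ (k + 1), ?_⟩
  rw [hi, hk, ← pow_mul, ← pow_succ']
  congr 1
  ring

end Field

section

variable {F : Type*} [Field F]

/-- matrices whose determinant is a square act as inner automorphisms -/
theorem cj_inner {C : GL (Fin 2) F} {s : F} (hs : (C : Matrix (Fin 2) (Fin 2) F).det = s ^ 2) :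
    ∃ D : SpecialLinearGroup (Fin 2) F, ∀ x : SpecialLinearGroup (Fin 2) F, cj C x = D * x * D⁻¹ := by
  have hdet : (C : Matrix (Fin 2) (Fin 2) F).det ≠ 0 := by
    have := (Matrix.isUnits_det_units C)
    exact this.ne_zero
  have hs0 : s ≠ 0 := by
    rintro rfl
    apply hdet
    rw [hs]
    ring
  let D : SpecialLinearGroup (Fin 2) F := ⟨s⁻¹ • (C : Matrix (Fin 2) (Fin 2) F), by
    rw [Matrix.det_smul, hs, Fintype.card_fin]
    field_simp⟩
  refine ⟨D, fun x => ?_⟩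
  rw [eq_mul_inv_iff_mul_eq]
  apply Subtype.ext
  rw [Matrix.SpecialLinearGroup.coe_mul, Matrix.SpecialLinearGroup.coe_mul, coe_cj]
  show (C : Matrix (Fin 2) (Fin 2) F) * (x : Matrix (Fin 2) (Fin 2) F) * ((C⁻¹ : GL (Fin 2) F) : Matrix (Fin 2) (Fin 2) F) *
    (s⁻¹ • (C : Matrix (Fin 2) (Fin 2) F)) = (s⁻¹ • (C : Matrix (Fin 2) (Fin 2) F)) * (x : Matrix (Fin 2) (Fin 2) F)
  rw [Matrix.mul_smul, Matrix.smul_mul, Matrix.mul_assoc _ ((C⁻¹ : GL (Fin 2) F) : Matrix (Fin 2) (Fin 2) F), ← Units.val_mul,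
    inv_mul_cancel, Units.val_one, Matrix.mul_one]

/-- the field automorphism on `GL` -/
noncomputable def gm (σ : F ≃+* F) : GL (Fin 2) F →* GL (Fin 2) F := Matrix.GeneralLinearGroup.map (σ : F →+* F)

theorem fld_cj (σ : F ≃+* F) (B : GL (Fin 2) F) :
    fld σ * cj B = (cj (gm σ B) * fld σ : MulAut (SpecialLinearGroup (Fin 2) F)) := by
  apply MulEquiv.ext
  intro x
  apply Subtype.ext
  show ((B : Matrix (Fin 2) (Fin 2) F) * (x : Matrix (Fin 2) (Fin 2) F) * ((B⁻¹ : GL (Fin 2) F) : Matrix (Fin 2) (Fin 2) F)).map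
      (σ : F →+* F) = (gm σ B : Matrix (Fin 2) (Fin 2) F) * (x : Matrix (Fin 2) (Fin 2) F).map (σ : F →+* F) *
      (((gm σ B)⁻¹ : GL (Fin 2) F) : Matrix (Fin 2) (Fin 2) F)
  rw [Matrix.map_mul, Matrix.map_mul, ← map_inv]
  rfl

theorem det_gm (σ : F ≃+* F) (B : GL (Fin 2) F) :
    (gm σ B : Matrix (Fin 2) (Fin 2) F).det = σ (B : Matrix (Fin 2) (Fin 2) F).det := by
  show ((B : Matrix (Fin 2) (Fin 2) F).map (σ : F →+* F)).det = _
  rw [← RingHom.mapMatrix_apply, ← RingHom.map_det]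
  rfl

end

section Grp

variable {F : Type*} [Field F] [Fintype F] {G : Type*} [Group G] {φ : SpecialLinearGroup (Fin 2) F →* G}

/-- `g` induces the automorphism `α` -/
def Ind (φ : SpecialLinearGroup (Fin 2) F →* G) (g : G) (α : MulAut (SpecialLinearGroup (Fin 2) F)) : Prop :=
  ∀ x, g * φ x * g⁻¹ = φ (α x)

theorem Ind.mul {g g' : G} {α β : MulAut (SpecialLinearGroup (Fin 2) F)} (h1 : Ind φ g α) (h2 : Ind φ g' β) :
    Ind φ (g * g') (α * β) := by
  intro x
  rw [MulAut.mul_apply, ← h1, ← h2]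
  group

theorem Ind.inv {g : G} {α : MulAut (SpecialLinearGroup (Fin 2) F)} (h1 : Ind φ g α) : Ind φ g⁻¹ α⁻¹ := by
  intro x
  have := h1 (α⁻¹ x)
  rw [MulAut.apply_inv_self] at this
  rw [← this]
  group

theorem Ind.mem (hcent : ∀ g : G, (∀ s ∈ φ.range, g * s = s * g) → g = 1) {g : G}
    {α : MulAut (SpecialLinearGroup (Fin 2) F)} (h1 : Ind φ g α) {D : SpecialLinearGroup (Fin 2) F}
    (hD : ∀ x, α x = D * x * D⁻¹) : g = φ D := by
  have h2 : (φ D)⁻¹ * g = 1 := by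
    apply hcent
    rintro _ ⟨x, rfl⟩
    have h3 := h1 x
    rw [hD, map_mul, map_mul, map_inv] at h3
    calc (φ D)⁻¹ * g * φ x = (φ D)⁻¹ * (g * φ x * g⁻¹) * g := by group
      _ = (φ D)⁻¹ * (φ D * φ x * (φ D)⁻¹) * g := by rw [h3]
      _ = φ x * ((φ D)⁻¹ * g) := by group
  exact (inv_mul_eq_one.1 h2).symm

/-- elements normalising the image -/
theorem exists_ind (hcard : Fintype.card F = 81)
    (hker : ∀ g, φ g = 1 ↔ g ∈ Subgroup.center (SpecialLinearGroup (Fin 2) F)) {g : G}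
    (hg : ∀ s ∈ φ.range, g * s * g⁻¹ ∈ φ.range) (hg' : ∀ s ∈ φ.range, g⁻¹ * s * g ∈ φ.range) :
    ∃ (A : GL (Fin 2) F) (σ : F ≃+* F), Ind φ g (cj A * fld σ) := by
  have hk : Subgroup.center (SpecialLinearGroup (Fin 2) F) = φ.ker := by
    ext x
    rw [MonoidHom.mem_ker, hker]
  let e : ProjectiveSpecialLinearGroup (Fin 2) F ≃* φ.range :=
    (QuotientGroup.quotientMulEquivOfEq hk).trans (QuotientGroup.quotientKerEquivRange φ)
  have he : ∀ x : SpecialLinearGroup (Fin 2) F, ((e (pr x) : φ.range) : G) = φ x := fun x => rfl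
  let c : MulAut φ.range :=
    { toFun := fun s => ⟨g * s * g⁻¹, hg s s.2⟩
      invFun := fun s => ⟨g⁻¹ * s * g, hg' s s.2⟩
      left_inv := fun s => Subtype.ext (by show g⁻¹ * (g * s * g⁻¹) * g = s; group)
      right_inv := fun s => Subtype.ext (by show g * (g⁻¹ * s * g) * g⁻¹ = s; group)
      map_mul' := fun s t => Subtype.ext (by
        show g * (s * t) * g⁻¹ = g * s * g⁻¹ * (g * t * g⁻¹)
        group) }
  have h3 : Fact (Nat.Prime 3) := ⟨Nat.prime_three⟩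
  have := charP_three hcard
  obtain ⟨A, σ, hA⟩ := surj_two 3 ((MulAut.congr e).symm c)
  refine ⟨A, σ, fun x => ?_⟩
  have h4 : ((MulAut.congr e).symm c) (pr x) = pr ((cj A * fld σ : MulAut (SpecialLinearGroup (Fin 2) F)) x) := by
    rw [hA, lift_pr]
  have h5 : e (((MulAut.congr e).symm c) (pr x)) = c (e (pr x)) := by
    show e (e.symm (c (e (pr x)))) = _
    rw [MulEquiv.apply_symm_apply]
  rw [h4] at h5
  have h6 := congrArg Subtype.val h5
  rw [he] at h6
  rw [h6, ← he x]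
  rfl

theorem mul_eq (σ τ : F ≃+* F) (A B : GL (Fin 2) F) :
    (cj A * fld σ * (cj B * fld τ) : MulAut (SpecialLinearGroup (Fin 2) F)) = cj (A * gm σ B) * fld (σ * τ) := by
  calc (cj A * fld σ * (cj B * fld τ) : MulAut (SpecialLinearGroup (Fin 2) F)) = cj A * (fld σ * cj B) * fld τ := by group
    _ = cj A * (cj (gm σ B) * fld σ) * fld τ := by rw [fld_cj]
    _ = cj (A * gm σ B) * fld (σ * τ) := by rw [map_mul, map_mul]; group

variable (hcard : Fintype.card F = 81) (hker : ∀ g, φ g = 1 ↔ g ∈ Subgroup.center (SpecialLinearGroup (Fin 2) F))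
  (hcent : ∀ g : G, (∀ s ∈ φ.range, g * s = s * g) → g = 1)

include hcard hker hcent

theorem comm81 {a b : G} (ha : ∀ s ∈ φ.range, a * s * a⁻¹ ∈ φ.range) (ha' : ∀ s ∈ φ.range, a⁻¹ * s * a ∈ φ.range)
    (hb : ∀ s ∈ φ.range, b * s * b⁻¹ ∈ φ.range) (hb' : ∀ s ∈ φ.range, b⁻¹ * s * b ∈ φ.range) :
    a * b * a⁻¹ * b⁻¹ ∈ φ.range := by
  obtain ⟨A, σ, hA⟩ := exists_ind hcard hker ha ha'
  obtain ⟨B, τ, hB⟩ := exists_ind hcard hker hb hb'
  have h1 := ((hA.mul hB).mul (hA.inv)).mul hB.inv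
  set X := A * gm σ B with hX
  set Y := B * gm τ A with hY
  have h2 : (cj A * fld σ * (cj B * fld τ) * (cj A * fld σ)⁻¹ * (cj B * fld τ)⁻¹ :
      MulAut (SpecialLinearGroup (Fin 2) F)) = cj (X * Y⁻¹) := by
    calc (cj A * fld σ * (cj B * fld τ) * (cj A * fld σ)⁻¹ * (cj B * fld τ)⁻¹ :
      MulAut (SpecialLinearGroup (Fin 2) F)) = cj A * fld σ * (cj B * fld τ) * (cj B * fld τ * (cj A * fld σ))⁻¹ := by group
      _ = cj X * fld (σ * τ) * (cj Y * fld (τ * σ))⁻¹ := by rw [mul_eq, mul_eq]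
      _ = cj (X * Y⁻¹) := by
        rw [aut_comm hcard τ σ, map_mul cj X, map_inv cj Y]
        group
  rw [h2] at h1
  have hdetX : (X : Matrix (Fin 2) (Fin 2) F).det = (A : Matrix (Fin 2) (Fin 2) F).det * σ (B : Matrix (Fin 2) (Fin 2) F).det := by
    rw [hX, Units.val_mul, Matrix.det_mul, det_gm]
  have hdetY : (Y : Matrix (Fin 2) (Fin 2) F).det = (B : Matrix (Fin 2) (Fin 2) F).det * τ (A : Matrix (Fin 2) (Fin 2) F).det := by
    rw [hY, Units.val_mul, Matrix.det_mul, det_gm]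
  obtain ⟨s, hs⟩ := sq_mul hcard τ (A : Matrix (Fin 2) (Fin 2) F).det
  obtain ⟨t, ht⟩ := sq_mul hcard σ (B : Matrix (Fin 2) (Fin 2) F).det
  have hY0 : (Y : Matrix (Fin 2) (Fin 2) F).det ≠ 0 := (Matrix.isUnits_det_units Y).ne_zero
  have hdet : ((X * Y⁻¹ : GL (Fin 2) F) : Matrix (Fin 2) (Fin 2) F).det =
      (s * t / (Y : Matrix (Fin 2) (Fin 2) F).det) ^ 2 := by
    have h3 : ((X * Y⁻¹ : GL (Fin 2) F) : Matrix (Fin 2) (Fin 2) F).det * (Y : Matrix (Fin 2) (Fin 2) F).det =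
        (X : Matrix (Fin 2) (Fin 2) F).det := by
      rw [← Matrix.det_mul, ← Units.val_mul, inv_mul_cancel_right]
    rw [div_pow, eq_div_iff (pow_ne_zero 2 hY0), mul_pow, ← hs, ← ht, pow_two, ← mul_assoc, h3, hdetX, hdetY]
    ring
  obtain ⟨D, hD⟩ := cj_inner hdet
  exact ⟨D, (h1.mem hcent hD).symm⟩

theorem four81 {a : G} (ha : ∀ s ∈ φ.range, a * s * a⁻¹ ∈ φ.range) (ha' : ∀ s ∈ φ.range, a⁻¹ * s * a ∈ φ.range) :
    a ^ 4 ∈ φ.range := by
  obtain ⟨A, σ, hA⟩ := exists_ind hcard hker ha ha'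
  have h0 := (hA.mul hA).mul (hA.mul hA)
  set X := A * gm σ A with hX
  have h2 : (cj A * fld σ * (cj A * fld σ) * (cj A * fld σ * (cj A * fld σ)) :
      MulAut (SpecialLinearGroup (Fin 2) F)) = cj (X * gm (σ * σ) X) := by
    rw [mul_eq, ← hX, mul_eq]
    have h3 : σ * σ * (σ * σ) = 1 := by
      have h4 := aut_four hcard σ
      rw [pow_succ, pow_succ, pow_succ, pow_one] at h4
      rw [← mul_assoc]
      exact h4
    rw [h3, map_one, mul_one]
  rw [h2] at h0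
  have hdet : ((X * gm (σ * σ) X : GL (Fin 2) F) : Matrix (Fin 2) (Fin 2) F).det =
      (X : Matrix (Fin 2) (Fin 2) F).det * (σ * σ) (X : Matrix (Fin 2) (Fin 2) F).det := by
    rw [Units.val_mul, Matrix.det_mul, det_gm]
  obtain ⟨s, hs⟩ := sq_mul hcard (σ * σ) (X : Matrix (Fin 2) (Fin 2) F).det
  rw [hs] at hdet
  obtain ⟨D, hD⟩ := cj_inner hdet
  have h5 : a ^ 4 = a * a * (a * a) := by simp only [pow_succ, pow_zero, one_mul, mul_assoc]
  rw [h5]
  exact ⟨D, (h0.mem hcent hD).symm⟩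

omit hker hcent in
theorem order_lam {lam : Fˣ} (hlam : ∀ x, x ∈ Subgroup.zpowers lam) : orderOf lam = 80 := by
  classical
  rw [orderOf_eq_card_of_forall_mem_zpowers hlam, Nat.card_eq_fintype_card, Fintype.card_units, hcard]

end Grp

section Cyc

variable {F : Type*} [Field F]

/-- `diag(μ, 1)` -/
def dg : Fˣ →* GL (Fin 2) F where
  toFun μ := ⟨!![(μ : F), 0; 0, 1], !![((μ⁻¹ : Fˣ) : F), 0; 0, 1], by
    rw [Matrix.mul_fin_two, Matrix.one_fin_two]; simp, by
    rw [Matrix.mul_fin_two, Matrix.one_fin_two]; simp⟩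
  map_one' := by
    apply Units.ext
    show !![((1 : Fˣ) : F), 0; 0, 1] = 1
    rw [Matrix.one_fin_two]; simp
  map_mul' a b := by
    apply Units.ext
    show !![((a * b : Fˣ) : F), 0; 0, 1] = !![(a : F), 0; 0, 1] * !![(b : F), 0; 0, 1]
    rw [Matrix.mul_fin_two]; simp

theorem cj_dg_u (μ : Fˣ) (t : F) : cj (dg μ) (u t) = u ((μ : F) * t) := by
  apply Subtype.ext
  show !![(μ : F), 0; 0, 1] * !![1, t; 0, 1] * !![((μ⁻¹ : Fˣ) : F), 0; 0, 1] = !![1, (μ : F) * t; 0, 1]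
  rw [Matrix.mul_fin_two, Matrix.mul_fin_two]
  simp

theorem u_mem_center {t : F} (ht : u t ∈ Subgroup.center (SpecialLinearGroup (Fin 2) F)) : t = 0 := by
  rw [Matrix.SpecialLinearGroup.mem_center_iff] at ht
  obtain ⟨r, -, hr⟩ := ht
  have h3 := congrFun (congrFun hr 0) 1
  simp [u, Matrix.scalar_apply] at h3
  exact h3.symm

/-- matrices commuting with `h λ` up to sign -/
theorem diag_of [Fintype F] (hcard : Fintype.card F = 81) {lam : Fˣ} (hlam : ∀ x, x ∈ Subgroup.zpowers lam)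
    {A : GL (Fin 2) F} {σ : F ≃+* F} {z : SpecialLinearGroup (Fin 2) F}
    (hz : z ∈ Subgroup.center (SpecialLinearGroup (Fin 2) F))
    (h0 : (cj A * fld σ : MulAut (SpecialLinearGroup (Fin 2) F)) (h lam) = z * h lam) :
    ∃ μ : Fˣ, (cj A * fld σ : MulAut (SpecialLinearGroup (Fin 2) F)) = cj (dg μ) := by
  rw [Matrix.SpecialLinearGroup.mem_center_iff] at hz
  obtain ⟨r, hr2, hr⟩ := hz
  rw [Fintype.card_fin] at hr2
  have hl0 : (lam : F) ≠ 0 := lam.ne_zero
  have hr0 : r ≠ 0 := by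
    rintro rfl
    simp at hr2
  have hσl0 : σ (lam : F) ≠ 0 := by simpa using hl0
  have horder := order_lam hcard hlam
  obtain ⟨i, hi4, hi⟩ := aut_pow hcard σ
  -- powers of `lam`
  have hpow : ∀ n : ℕ, (lam : F) ^ n = 1 → 80 ∣ n := by
    intro n hn
    rw [← horder]
    apply orderOf_dvd_of_pow_eq_one
    apply Units.ext
    rw [Units.val_pow_eq_pow_val, hn, Units.val_one]
  -- the matrix equation
  have h1 : (A : Matrix (Fin 2) (Fin 2) F) * !![σ (lam : F), 0; 0, σ ((lam : F)⁻¹)] =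
      !![r * (lam : F), 0; 0, r * (lam : F)⁻¹] * (A : Matrix (Fin 2) (Fin 2) F) := by
    have h2 := congrArg Subtype.val h0
    have h3 : ((cj A * fld σ : MulAut (SpecialLinearGroup (Fin 2) F)) (h lam)).1 =
        (A : Matrix (Fin 2) (Fin 2) F) * !![σ (lam : F), 0; 0, σ ((lam : F)⁻¹)] *
          ((A⁻¹ : GL (Fin 2) F) : Matrix (Fin 2) (Fin 2) F) := by
      rw [MulAut.mul_apply]
      show (A : Matrix (Fin 2) (Fin 2) F) * ((fld σ (h lam) : SpecialLinearGroup (Fin 2) F) : Matrix (Fin 2) (Fin 2) F) * _ = _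
      congr 2
      ext k l
      rw [coe_fld_apply]
      fin_cases k <;> fin_cases l <;> simp [h]
    have h4 : (z * h lam).1 = !![r * (lam : F), 0; 0, r * (lam : F)⁻¹] := by
      show (z : Matrix (Fin 2) (Fin 2) F) * !![(lam : F), 0; 0, (lam : F)⁻¹] = _
      rw [← hr]
      ext k l
      fin_cases k <;> fin_cases l <;> simp [Matrix.scalar_apply]
    rw [h3, h4] at h2
    rw [← h2, Matrix.mul_assoc _ ((A⁻¹ : GL (Fin 2) F) : Matrix (Fin 2) (Fin 2) F), ← Units.val_mul, inv_mul_cancel,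
      Units.val_one, Matrix.mul_one]
  have e00 := congrFun (congrFun h1 0) 0
  have e01 := congrFun (congrFun h1 0) 1
  have e10 := congrFun (congrFun h1 1) 0
  have e11 := congrFun (congrFun h1 1) 1
  simp only [Matrix.mul_apply, Fin.sum_univ_two, Matrix.of_apply, Matrix.cons_val', Matrix.cons_val_zero,
    Matrix.cons_val_one, Matrix.cons_val_fin_one, mul_zero, zero_mul, add_zero, zero_add, map_inv₀] at e00 e01 e10 e11
  set a := (A : Matrix (Fin 2) (Fin 2) F) 0 0 with ha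
  set b := (A : Matrix (Fin 2) (Fin 2) F) 0 1 with hb
  set c := (A : Matrix (Fin 2) (Fin 2) F) 1 0 with hc
  set d := (A : Matrix (Fin 2) (Fin 2) F) 1 1 with hd
  have hprod : σ (lam : F) * lam * r ≠ 1 := by
    intro h5
    have h6 : (σ (lam : F) * lam) ^ 2 = 1 := by
      have : (σ (lam : F) * lam * r) ^ 2 = 1 := by rw [h5, one_pow]
      rwa [mul_pow, hr2, mul_one] at this
    rw [hi, ← pow_succ, ← pow_mul] at h6
    have h7 := hpow _ h6
    interval_cases i <;> omega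
  have hb0 : b = 0 := by
    by_contra hb0
    apply hprod
    have h5 : (σ (lam : F))⁻¹ = r * lam := mul_left_cancel₀ hb0 (by rw [e01]; ring)
    have h6 : σ (lam : F) * (σ (lam : F))⁻¹ = 1 := mul_inv_cancel₀ hσl0
    rw [h5] at h6
    rw [← h6]
    ring
  have hc0 : c = 0 := by
    by_contra hc0
    apply hprod
    have h5 : σ (lam : F) = r * (lam : F)⁻¹ := mul_left_cancel₀ hc0 (by rw [e10]; ring)
    rw [h5, mul_assoc (r), inv_mul_cancel₀ hl0, mul_one, ← pow_two, hr2]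
  have hdetA : a * d ≠ 0 := by
    have h5 := (Matrix.isUnits_det_units A).ne_zero
    rw [Matrix.det_fin_two, ← ha, ← hb, ← hc, ← hd, hb0, zero_mul, sub_zero] at h5
    exact h5
  have ha0 : a ≠ 0 := left_ne_zero_of_mul hdetA
  have hd0 : d ≠ 0 := right_ne_zero_of_mul hdetA
  have h5 : σ (lam : F) = r * lam := mul_left_cancel₀ ha0 (by rw [e00]; ring)
  have hi0 : i = 0 := by
    have h6 : (σ (lam : F)) ^ 2 = (lam : F) ^ 2 := by rw [h5, mul_pow, hr2, one_mul]
    rw [hi, ← pow_mul] at h6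
    have h7 : (lam : F) ^ (3 ^ i * 2 - 2) = 1 := by
      have h8 : 2 ≤ 3 ^ i * 2 := by
        have := Nat.one_le_pow i 3 (by norm_num)
        omega
      have h9 : (lam : F) ^ (3 ^ i * 2 - 2) * (lam : F) ^ 2 = 1 * (lam : F) ^ 2 := by
        rw [← pow_add, Nat.sub_add_cancel h8, h6, one_mul]
      exact mul_right_cancel₀ (pow_ne_zero 2 hl0) h9
    have h8 := hpow _ h7
    interval_cases i <;> omega
  have hσ1 : σ = 1 := by
    apply RingEquiv.ext
    intro x
    rw [hi, hi0, pow_zero, pow_one]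
    rfl
  subst hσ1
  rw [map_one, mul_one]
  refine ⟨Units.mk0 a ha0 / Units.mk0 d hd0, ?_⟩
  have h6 : cj ((dg (Units.mk0 a ha0 / Units.mk0 d hd0))⁻¹ * A) = 1 := by
    refine cj_eq_one_of_scalar (r := d) ?_
    show scalar (Fin 2) d = ((dg (Units.mk0 a ha0 / Units.mk0 d hd0))⁻¹ : GL (Fin 2) F).1 * (A : Matrix (Fin 2) (Fin 2) F)
    have h7 : ((dg (Units.mk0 a ha0 / Units.mk0 d hd0))⁻¹ : GL (Fin 2) F).1 = !![d / a, 0; 0, 1] := by
      show !![((((Units.mk0 a ha0 / Units.mk0 d hd0 : Fˣ))⁻¹ : Fˣ) : F), 0; 0, 1] = _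
      simp
    have h8 : (A : Matrix (Fin 2) (Fin 2) F) = !![a, 0; 0, d] := by
      ext k l
      fin_cases k <;> fin_cases l
      · rfl
      · exact hb0
      · exact hc0
      · rfl
    rw [h7, h8, Matrix.mul_fin_two]
    ext k l
    fin_cases k <;> fin_cases l <;> simp [Matrix.scalar_apply, ha0]
  rw [map_mul, map_inv, inv_mul_eq_one] at h6
  exact h6.symm

variable [Fintype F] {G : Type*} [Group G] {φ : SpecialLinearGroup (Fin 2) F →* G}

theorem cyc81 (hcard : Fintype.card F = 81) (hker : ∀ g, φ g = 1 ↔ g ∈ Subgroup.center (SpecialLinearGroup (Fin 2) F))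
    (hcent : ∀ g : G, (∀ s ∈ φ.range, g * s = s * g) → g = 1) (H : Subgroup G)
    (hH : ∀ g ∈ H, ∀ s ∈ φ.range, g * s * g⁻¹ ∈ φ.range) {lam : Fˣ} (hlam : ∀ x, x ∈ Subgroup.zpowers lam) :
    IsCyclic ↥(H ⊓ Subgroup.centralizer {φ (h lam)}) ∧ Nat.card ↥(H ⊓ Subgroup.centralizer {φ (h lam)}) ∣ 80 := by
  have key : ∀ c : ↥(H ⊓ Subgroup.centralizer {φ (h lam)}), ∃ μ : Fˣ, Ind φ c (cj (dg μ)) := by
    rintro ⟨c, hcH, hcy⟩
    obtain ⟨A, σ, hA⟩ := exists_ind hcard hker (hH c hcH) (fun s hs => by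
      have := hH c⁻¹ (H.inv_mem hcH) s hs
      rwa [inv_inv] at this)
    have h1 : c * φ (h lam) * c⁻¹ = φ (h lam) := by
      rw [mul_inv_eq_iff_eq_mul]
      exact Subgroup.mem_centralizer_singleton_iff.1 hcy
    rw [hA (h lam)] at h1
    have h2 : φ ((cj A * fld σ : MulAut (SpecialLinearGroup (Fin 2) F)) (h lam) * (h lam)⁻¹) = 1 := by
      rw [map_mul, map_inv, h1, mul_inv_cancel]
    obtain ⟨μ, hμ⟩ := diag_of hcard hlam ((hker _).1 h2) (inv_mul_cancel_right _ _).symm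
    exact ⟨μ, hμ ▸ hA⟩
  choose f hf using key
  have huniq : ∀ (c : G) (μ μ' : Fˣ), Ind φ c (cj (dg μ)) → Ind φ c (cj (dg μ')) → μ = μ' := by
    intro c μ μ' h1 h2
    have h3 := h1 (u 1)
    rw [h2 (u 1), cj_dg_u, cj_dg_u, mul_one, mul_one] at h3
    have h4 : φ (u ((μ : F) - μ')) = 1 := by
      rw [sub_eq_add_neg, Cfsg.Agent.H943.SL2Rel.u_add, Cfsg.Agent.H943.SL2Rel.u_neg, map_mul, map_inv, h3, mul_inv_cancel]
    have h5 := u_mem_center ((hker _).1 h4)
    exact Units.ext (sub_eq_zero.1 h5)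
  let g : ↥(H ⊓ Subgroup.centralizer {φ (h lam)}) →* Fˣ := MonoidHom.mk' f (by
    intro a b
    apply huniq (a * b : G) _ _ (hf (a * b))
    rw [map_mul, map_mul]
    exact (hf a).mul (hf b))
  have hginj : Function.Injective g := by
    rw [injective_iff_map_eq_one]
    intro c hc
    have h1 := hf c
    change f c = 1 at hc
    rw [hc, map_one, map_one] at h1
    apply Subtype.ext
    apply hcent
    rintro _ ⟨x, rfl⟩
    have h2 := h1 x
    rw [MulAut.one_apply, mul_inv_eq_iff_eq_mul] at h2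
    exact h2
  refine ⟨isCyclic_of_injective g hginj, ?_⟩
  have h1 := Subgroup.card_dvd_of_injective g hginj
  have h2 : Nat.card Fˣ = 80 := by
    classical
    rw [Nat.card_eq_fintype_card, Fintype.card_units, hcard]
  rwa [h2] at h1

end Cyc

end Cfsg.Agent.H434.E8L
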