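import Mathlib
import Cfsg.Agent.H434.E8L.Aut81
import Cfsg.Agent.H525.E8L.Iface
import Cfsg.Agent.H834.E8.NoFix
import Cfsg.Agent.Lib.GenFitting

/-!
# S5921: the group side (helper434)
-/

set_option autoImplicit false

namespace Cfsg.Agent.H434.E8L

open Matrix Cfsg Cfsg.Lie Cfsg.Agent.H525.E8L
open Cfsg.Agent.H943.SL2Rel (h u w)

section Gen

variable {G : Type*} [Group G]

/-- a subgroup between a maximal subgroup and the group -/
theorem eq_of_coatom {H N : Subgroup G} (hH : IsCoatom H) (h1 : H ≤ N) (h2 : N ≠ ⊤) : N = H :=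
  ((hH.le_iff.1 h1).resolve_left h2)

theorem mem_normalizer_of [Finite G] {S : Subgroup G} {g : G} (hg : ∀ s ∈ S, g * s * g⁻¹ ∈ S) :
    g ∈ Subgroup.normalizer (S : Set G) := by
  rw [Subgroup.mem_normalizer_iff_map_conj_eq]
  apply Subgroup.eq_of_le_of_card_ge
  · rintro _ ⟨s, hs, rfl⟩
    exact hg s hs
  · rw [Subgroup.card_map_of_injective (MulAut.conj g).injective]

/-- a subgroup normalised by a maximal subgroup of a simple group -/
theorem normalizer_coatom [Finite G] [IsSimpleGroup G] {H S : Subgroup G} (hH : IsCoatom H)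
    (hn : ∀ g ∈ H, ∀ s ∈ S, g * s * g⁻¹ ∈ S) :
    S = ⊥ ∨ S = ⊤ ∨ Subgroup.normalizer (S : Set G) = H := by
  have h1 : H ≤ Subgroup.normalizer (S : Set G) := fun g hg => mem_normalizer_of (hn g hg)
  by_cases h2 : Subgroup.normalizer (S : Set G) = ⊤
  · have h4 : S.Normal := Subgroup.normalizer_eq_top_iff.1 h2
    rcases h4.eq_bot_or_eq_top with h5 | h5
    · exact Or.inl h5
    · exact Or.inr (Or.inl h5)
  · exact Or.inr (Or.inr (eq_of_coatom hH h1 h2))

/-- the centre of `PSL₂(F)` is trivial -/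
theorem center_triv {F : Type*} [Field F] [Fintype F] (hcard : Fintype.card F = 81)
    {φ : SpecialLinearGroup (Fin 2) F →* G} (hker : ∀ g, φ g = 1 ↔ g ∈ Subgroup.center (SpecialLinearGroup (Fin 2) F))
    {z : SpecialLinearGroup (Fin 2) F} (hz : ∀ x, φ z * φ x = φ x * φ z) : φ z = 1 := by
  rw [hker, Matrix.SpecialLinearGroup.mem_center_iff]
  have hc : ∀ x : SpecialLinearGroup (Fin 2) F, ∃ r : F, r ^ 2 = 1 ∧
      (z : Matrix (Fin 2) (Fin 2) F) * (x : Matrix (Fin 2) (Fin 2) F) =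
        r • ((x : Matrix (Fin 2) (Fin 2) F) * (z : Matrix (Fin 2) (Fin 2) F)) := by
    intro x
    have h1 : φ (z * x * (x * z)⁻¹) = 1 := by
      rw [map_mul, map_inv, map_mul, map_mul, hz x, mul_inv_cancel]
    rw [hker, Matrix.SpecialLinearGroup.mem_center_iff] at h1
    obtain ⟨r, hr2, hr⟩ := h1
    rw [Fintype.card_fin] at hr2
    refine ⟨r, hr2, ?_⟩
    have h2 : z * x = (z * x * (x * z)⁻¹) * (x * z) := by group
    have h3 : (z : Matrix (Fin 2) (Fin 2) F) * (x : Matrix (Fin 2) (Fin 2) F) =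
        ((z * x * (x * z)⁻¹ : SpecialLinearGroup (Fin 2) F) : Matrix (Fin 2) (Fin 2) F) *
        ((x : Matrix (Fin 2) (Fin 2) F) * (z : Matrix (Fin 2) (Fin 2) F)) := congrArg Subtype.val h2
    rw [h3, ← hr, Matrix.scalar_apply, ← Matrix.smul_eq_diagonal_mul]
  have h3 : Fact (Nat.Prime 3) := ⟨Nat.prime_three⟩
  have hch := charP_three hcard
  have h2ne : (2 : F) ≠ 0 := by
    intro h0
    have := (CharP.cast_eq_zero_iff F 3 2).1 (by exact_mod_cast h0)
    omega
  have hself : ∀ x : F, x = -x → x = 0 := by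
    intro x hx
    have : 2 * x = 0 := by linear_combination hx
    exact (mul_eq_zero.1 this).resolve_left h2ne
  have hdet : z.1 0 0 * z.1 1 1 - z.1 0 1 * z.1 1 0 = 1 := by
    have := z.2
    rwa [Matrix.det_fin_two] at this
  obtain ⟨r, hr2, hr⟩ := hc (u 1)
  have hr' : z.1 * !![1, 1; 0, 1] = r • (!![1, 1; 0, 1] * z.1) := hr
  have e00 := congrFun (congrFun hr' 0) 0
  have e01 := congrFun (congrFun hr' 0) 1
  have e10 := congrFun (congrFun hr' 1) 0
  have e11 := congrFun (congrFun hr' 1) 1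
  simp only [Matrix.mul_apply, Fin.sum_univ_two, Matrix.of_apply, Matrix.cons_val', Matrix.cons_val_zero,
    Matrix.cons_val_one, Matrix.cons_val_fin_one, mul_zero, zero_mul, add_zero, zero_add, mul_one, one_mul,
    Matrix.smul_apply, smul_eq_mul] at e00 e01 e10 e11
  -- the lower unipotent
  let v : SpecialLinearGroup (Fin 2) F := ⟨!![1, 0; 1, 1], by simp [Matrix.det_fin_two]⟩
  obtain ⟨t, ht2, ht⟩ := hc v
  have ht' : z.1 * !![1, 0; 1, 1] = t • (!![1, 0; 1, 1] * z.1) := ht
  have f00 := congrFun (congrFun ht' 0) 0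
  have f01 := congrFun (congrFun ht' 0) 1
  have f10 := congrFun (congrFun ht' 1) 0
  have f11 := congrFun (congrFun ht' 1) 1
  simp only [Matrix.mul_apply, Fin.sum_univ_two, Matrix.of_apply, Matrix.cons_val', Matrix.cons_val_zero,
    Matrix.cons_val_one, Matrix.cons_val_fin_one, mul_zero, zero_mul, add_zero, zero_add, mul_one, one_mul,
    Matrix.smul_apply, smul_eq_mul] at f00 f01 f10 f11
  have hr1 : r = 1 := by
    rcases sq_eq_one_iff.1 hr2 with h0 | h0
    · exact h0
    · exfalso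
      rw [h0] at e10 e11
      have hc0 : z.1 1 0 = 0 := hself _ (by linear_combination e10)
      rw [hc0] at e11
      have hd0 : z.1 1 1 = 0 := hself _ (by linear_combination e11)
      rw [hc0, hd0] at hdet
      simp at hdet
  have ht1 : t = 1 := by
    rcases sq_eq_one_iff.1 ht2 with h0 | h0
    · exact h0
    · exfalso
      rw [h0] at f01 f00
      have hb0 : z.1 0 1 = 0 := hself _ (by linear_combination f01)
      rw [hb0] at f00
      have ha0 : z.1 0 0 = 0 := hself _ (by linear_combination f00)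
      rw [hb0, ha0] at hdet
      simp at hdet
  rw [hr1] at e00 e01
  rw [ht1] at f00
  have hc0 : z.1 1 0 = 0 := by linear_combination -e00
  have had : z.1 0 0 = z.1 1 1 := by linear_combination e01
  have hb0 : z.1 0 1 = 0 := by linear_combination f00
  refine ⟨z.1 0 0, ?_, ?_⟩
  · rw [Fintype.card_fin]
    rw [hb0, ← had] at hdet
    linear_combination hdet
  · ext k l
    fin_cases k <;> fin_cases l
    · simp [Matrix.scalar_apply]
    · simpa [Matrix.scalar_apply] using hb0.symm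
    · simpa [Matrix.scalar_apply] using hc0.symm
    · simpa [Matrix.scalar_apply] using had

theorem exists_gen [Finite G] [IsSimpleGroup G] {F : Type*} [Field F] [Fintype F] (hcard : Fintype.card F = 81)
    (H : Subgroup G) (hmax : IsCoatom H)
    (e : ↥(generalizedFittingSubgroup ↥H) ≃* ProjectiveSpecialLinearGroup (Fin 2) F) :
    ∃ φ : SpecialLinearGroup (Fin 2) F →* G,
      (∀ g, φ g = 1 ↔ g ∈ Subgroup.center (SpecialLinearGroup (Fin 2) F)) ∧ φ.range ≤ H ∧
      (∀ g ∈ H, ∀ s ∈ φ.range, g * s * g⁻¹ ∈ φ.range) ∧ (∀ g ∈ H, ∀ s ∈ φ.range, g⁻¹ * s * g ∈ φ.range) ∧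
      (∀ g : G, (∀ s ∈ φ.range, g * s * g⁻¹ ∈ φ.range) → g ∈ H) ∧ ∀ g : G, (∀ s ∈ φ.range, g * s = s * g) → g = 1 := by
  set E : Subgroup ↥H := generalizedFittingSubgroup ↥H with hE
  have hEn : E.Normal := Cfsg.Agent.Lib.GenFitting.genFitting_normal
  have hEc : Subgroup.centralizer (E : Set ↥H) ≤ E := Cfsg.Agent.Lib.GenFitting.centralizer_genFitting_le
  let φ : SpecialLinearGroup (Fin 2) F →* G :=
    ((H.subtype.comp E.subtype).comp e.symm.toMonoidHom).comp
      (QuotientGroup.mk' (Subgroup.center (SpecialLinearGroup (Fin 2) F)))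
  have hφ : ∀ x, φ x = ((e.symm (QuotientGroup.mk' (Subgroup.center (SpecialLinearGroup (Fin 2) F)) x) : ↥E) : ↥H) :=
    fun x => rfl
  have hker : ∀ g, φ g = 1 ↔ g ∈ Subgroup.center (SpecialLinearGroup (Fin 2) F) := by
    intro g
    rw [hφ, OneMemClass.coe_eq_one, OneMemClass.coe_eq_one, map_eq_one_iff _ e.symm.injective]
    exact QuotientGroup.eq_one_iff g
  have hrange : φ.range = E.map H.subtype := by
    ext x
    constructor
    · rintro ⟨y, rfl⟩
      exact ⟨_, (e.symm (QuotientGroup.mk' (Subgroup.center (SpecialLinearGroup (Fin 2) F)) y)).2, rfl⟩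
    · rintro ⟨z, hz, rfl⟩
      obtain ⟨y, hy⟩ := QuotientGroup.mk'_surjective (Subgroup.center (SpecialLinearGroup (Fin 2) F)) (e ⟨z, hz⟩)
      refine ⟨y, ?_⟩
      rw [hφ, hy, e.symm_apply_apply]
      rfl
  have hle : φ.range ≤ H := by
    rw [hrange]
    exact Subgroup.map_subtype_le _
  have hnorm : ∀ g ∈ H, ∀ s ∈ φ.range, g * s * g⁻¹ ∈ φ.range := by
    intro g hg s hs
    rw [hrange] at hs ⊢
    obtain ⟨z, hz, rfl⟩ := hs
    exact ⟨⟨g, hg⟩ * z * ⟨g, hg⟩⁻¹, hEn.conj_mem z hz _, rfl⟩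
  have hnorm' : ∀ g ∈ H, ∀ s ∈ φ.range, g⁻¹ * s * g ∈ φ.range := by
    intro g hg s hs
    have := hnorm g⁻¹ (H.inv_mem hg) s hs
    rwa [inv_inv] at this
  have hw : φ w ≠ 1 := by
    intro h0
    exact Cfsg.Agent.H943.PSLHom.w_not_mem_center ((hker _).1 h0)
  have hnrm : ∀ g : G, (∀ s ∈ φ.range, g * s * g⁻¹ ∈ φ.range) → g ∈ H := by
    have h2 : Subgroup.normalizer (φ.range : Set G) = H := by
      rcases normalizer_coatom hmax hnorm with h5 | h5 | h5
      · exfalso
        apply hw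
        have : φ w ∈ φ.range := ⟨w, rfl⟩
        rwa [h5, Subgroup.mem_bot] at this
      · exfalso
        exact hmax.1 (top_le_iff.1 (h5 ▸ hle))
      · exact h5
    intro g hg
    rw [← h2]
    exact mem_normalizer_of hg
  refine ⟨φ, hker, hle, hnorm, hnorm', hnrm, ?_⟩
  intro g hg
  have hgH : g ∈ H := hnrm g fun s hs => by rw [hg s hs, mul_inv_cancel_right]; exact hs
  have h1 : (⟨g, hgH⟩ : ↥H) ∈ Subgroup.centralizer (E : Set ↥H) := by
    rw [Subgroup.mem_centralizer_iff]
    intro z hz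
    apply Subtype.ext
    have : (z : G) ∈ φ.range := by rw [hrange]; exact ⟨z, hz, rfl⟩
    exact (hg z this).symm
  have h2 : g ∈ φ.range := by
    rw [hrange]
    exact ⟨_, hEc h1, rfl⟩
  obtain ⟨z, rfl⟩ := h2
  exact center_triv hcard hker fun x => hg _ ⟨x, rfl⟩

end Gen

/-- **GROUP** -/
theorem groupStmt : GroupStmt := by
  intro F _ _ hcard H ⟨e⟩ hmax
  have hsimple : IsSimpleGroup G8 := Cfsg.Agent.H834.E8.noFix.1
  obtain ⟨φ, hker, hle, hnorm, hnorm', hnrm, hcent⟩ := exists_gen hcard H hmax e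
  exact ⟨φ,
    { card := hcard
      coatom := hmax
      ker := hker
      le := hle
      norm := hnorm
      nrm := hnrm
      cent := hcent
      comm := fun a ha b hb => comm81 hcard hker hcent (hnorm a ha) (hnorm' a ha) (hnorm b hb) (hnorm' b hb)
      four := fun a ha => four81 hcard hker hcent (hnorm a ha) (hnorm' a ha)
      cyc := fun lam hlam => cyc81 hcard hker hcent H hnorm hlam }⟩

/-- the pointwise stabiliser of a subspace -/
def pst (A : Submodule (ZMod 3) (chevE8.Idx → ZMod 3)) : Subgroup G8 where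
  carrier := {g | ∀ a ∈ A, act g a = a}
  one_mem' := fun a _ => act_one a
  mul_mem' := fun {x y} hx hy a ha => by
    show act (x * y) a = a
    rw [act_mul, hy a ha, hx a ha]
  inv_mem' := fun {x} hx a ha => by
    show act x⁻¹ a = a
    have h1 : act x a = a := hx a ha
    have h2 := act_mul x⁻¹ x a
    rw [inv_mul_cancel, act_one, h1] at h2
    exact h2.symm

theorem mem_pst {A : Submodule (ZMod 3) (chevE8.Idx → ZMod 3)} {g : G8} : g ∈ pst A ↔ ∀ a ∈ A, act g a = a := Iff.rfl

theorem act_conj {g s : G8} {a : chevE8.Idx → ZMod 3} (h : act s (act g⁻¹ a) = act g⁻¹ a) : act (g * s * g⁻¹) a = a := by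
  rw [act_mul, act_mul, h, ← act_mul, mul_inv_cancel, act_one]

/-- **CENTRE** -/
theorem centreStmt : CentreStmt := by
  intro F _ _ H φ st A hA hinv hfix g hg
  have hsimple : IsSimpleGroup G8 := Cfsg.Agent.H834.E8.noFix.1
  have hnf := Cfsg.Agent.H834.E8.noFix.2
  have hgC : g ∈ pst A := hg
  have h1 : ∀ x ∈ H, ∀ s ∈ pst A, x * s * x⁻¹ ∈ pst A := by
    intro x hx s hs a ha
    exact act_conj (hs _ (hinv x⁻¹ (H.inv_mem hx) a ha))
  rcases normalizer_coatom st.coatom h1 with h5 | h5 | h5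
  · rw [h5, Subgroup.mem_bot] at hgC
    rw [hgC]
    exact H.one_mem
  · exfalso
    apply hA
    rw [eq_bot_iff]
    intro a ha
    rw [Submodule.mem_bot]
    apply hnf
    intro x hx
    have h6 : (⟨x, hx⟩ : G8) ∈ pst A := by rw [h5]; trivial
    exact h6 a ha
  · rw [← h5]
    exact Subgroup.le_normalizer hgC

end Cfsg.Agent.H434.E8L
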